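import Groth.Prelude.Def_W4c4cptpiccptjacBI
import Mathlib.Tactic

/-!
# The Basic Inequality on weighted multigraphs
-/

namespace Groth.Agent.GraphBI

open Finset LabGraph

set_option linter.unusedSectionVars false

universe u

variable {V E : Type u} [Fintype V] [Fintype E] [DecidableEq V] [DecidableEq E]
  (ends : E → V × V) (w : V → ℕ)

/-- Indicator of a vertex set. -/
def ind (Y : Finset V) (v : V) : ℤ := if v ∈ Y then 1 else 0

/-- Difference of a labelling along an edge. -/
def dif (φ : V → ℤ) (e : E) : ℤ := φ (ends e).2 - φ (ends e).1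

theorem dif_add (φ ψ : V → ℤ) (e : E) : dif ends (φ + ψ) e = dif ends φ e + dif ends ψ e := by
  simp only [dif, Pi.add_apply]; ring

theorem ind_sum (Y : Finset V) (a : V → ℤ) : ∑ v, ind Y v * a v = ∑ v ∈ Y, a v := by
  simp [ind, ite_mul]

theorem cut_eq (Y : Finset V) : (cut ends Y : ℤ) = ∑ e, dif ends (ind Y) e ^ 2 := by
  unfold cut
  rw [← Finset.sum_boole]
  refine sum_congr rfl fun e _ => ?_
  by_cases h1 : (ends e).1 ∈ Y <;> by_cases h2 : (ends e).2 ∈ Y <;> simp [dif, ind, h1, h2]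

theorem cut_compl (Y : Finset V) : cut ends Yᶜ = cut ends Y := by
  unfold cut; congr 1; ext e; simp; tauto

theorem sum_mul_twist (g φ : V → ℤ) :
    ∑ v, g v * twist ends φ v = -∑ e, dif ends g e * dif ends φ e := by
  simp only [twist, mul_sum, mul_add, mul_ite, mul_zero]
  rw [Finset.sum_comm, ← sum_neg_distrib]
  refine sum_congr rfl fun e _ => ?_
  rw [sum_add_distrib, Finset.sum_ite_eq, Finset.sum_ite_eq, if_pos (mem_univ _), if_pos (mem_univ _)]
  simp only [dif]; ring

theorem sum_twist_set (Y : Finset V) (φ : V → ℤ) :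
    ∑ v ∈ Y, twist ends φ v = -∑ e, dif ends (ind Y) e * dif ends φ e := by
  rw [← sum_mul_twist, ind_sum]

theorem sum_twist (φ : V → ℤ) : ∑ v, twist ends φ v = 0 := by
  rw [sum_twist_set ends univ φ, sum_eq_zero fun e _ => ?_, neg_zero]
  simp [dif, ind]

theorem twist_add (φ ψ : V → ℤ) (v : V) :
    twist ends (φ + ψ) v = twist ends φ v + twist ends ψ v := by
  simp only [twist, Pi.add_apply, ← sum_add_distrib]
  refine sum_congr rfl fun e _ => ?_
  split_ifs <;> ring

theorem twist_sub (φ ψ : V → ℤ) (v : V) :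
    twist ends (fun u => φ u - ψ u) v = twist ends φ v - twist ends ψ v := by
  simp only [twist, ← sum_sub_distrib]
  refine sum_congr rfl fun e _ => ?_
  split_ifs <;> ring

/-- The potential whose sums over vertex sets the Basic Inequality bounds. -/
def pot (d : V → ℤ) (v : V) : ℤ :=
  canDeg ends w univ * d v - (∑ u, d u) * (2 * (w v : ℤ) - 2 + (endCount ends univ v : ℤ))

theorem sum_pot (d : V → ℤ) (Y : Finset V) :
    ∑ v ∈ Y, pot ends w d v = canDeg ends w univ * (∑ v ∈ Y, d v) - (∑ v, d v) * canDeg ends w Y := by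
  simp [pot, canDeg, sum_sub_distrib, mul_sum]

theorem sum_pot_univ (d : V → ℤ) : ∑ v, pot ends w d v = 0 := by
  rw [sum_pot]; ring

theorem bi_iff (d : V → ℤ) : SatisfiesBI ends w d ↔
    ∀ Y : Finset V, 2 * (∑ v ∈ Y, pot ends w d v) ≤ (cut ends Y : ℤ) * canDeg ends w univ := by
  simp only [SatisfiesBI, ← sum_pot]
  constructor
  · intro h Y; have := h Y; have := le_abs_self (∑ v ∈ Y, pot ends w d v); linarith
  · intro h Y
    have h1 := h Y
    have h2 := h Yᶜ
    rw [cut_compl] at h2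
    have h3 : ∑ v ∈ Yᶜ, pot ends w d v + ∑ v ∈ Y, pot ends w d v = 0 := by
      rw [Finset.sum_compl_add_sum, sum_pot_univ]
    rcases abs_cases (∑ v ∈ Y, pot ends w d v) with ⟨h4, -⟩ | ⟨h4, -⟩ <;> rw [h4] <;> linarith

theorem pot_twist (d φ : V → ℤ) (v : V) :
    pot ends w (fun u => d u + twist ends φ u) v = pot ends w d v + canDeg ends w univ * twist ends φ v := by
  simp only [pot, sum_add_distrib, sum_twist]; ring

theorem canDeg_univ : canDeg ends w univ = 2 * genus ends w - 2 := by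
  have h : ∑ v, (endCount ends univ v : ℤ) = 2 * (Fintype.card E : ℤ) := by
    simp only [endCount]
    push_cast
    rw [Finset.sum_comm]
    simp [sum_add_distrib]
    ring
  simp only [canDeg, genus, sum_add_distrib, sum_sub_distrib, ← mul_sum, h, sum_const, card_univ]
  simp; ring

theorem exists_abs_dif_le (hG : Connected ends) (u v : V) :
    ∃ k : ℕ, ∀ φ : V → ℤ, |φ v - φ u| ≤ k * ∑ e, |dif ends φ e| := by
  induction hG.2 u v with
  | refl => exact ⟨0, fun φ => by simp⟩
  | @tail b c _ hs ih =>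
    obtain ⟨k, hk⟩ := ih
    obtain ⟨e, he⟩ := hs
    refine ⟨k + 1, fun φ => ?_⟩
    have h1 : |φ c - φ b| ≤ ∑ e, |dif ends φ e| := by
      refine le_trans (le_of_eq ?_) (single_le_sum (fun e _ => abs_nonneg (dif ends φ e)) (mem_univ e))
      rcases he with he | he <;> simp [dif, he, abs_sub_comm]
    have h2 := _root_.abs_sub_le (φ c) (φ b) (φ u)
    have h3 := hk φ
    push_cast
    linarith

theorem exists_bi (hG : Connected ends) (hC : 0 < canDeg ends w univ) (d : V → ℤ) :
    ∃ φ : V → ℤ, SatisfiesBI ends w (fun u => d u + twist ends φ u) := by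
  obtain ⟨v0⟩ := hG.1
  choose k hk using fun v => exists_abs_dif_le ends hG v0 v
  set C := canDeg ends w univ
  set a := pot ends w d
  set A : ℤ := ∑ v, |a v| * k v
  let En : (V → ℤ) → ℤ := fun φ => ∑ e, C * dif ends φ e ^ 2 - 2 * ∑ v, a v * φ v
  have hlow : ∀ φ, -∑ _e : E, A ^ 2 ≤ En φ := by
    intro φ
    have h1 : ∑ v, a v * φ v ≤ A * ∑ e, |dif ends φ e| := by
      have h2 : ∑ v, a v * φ v = ∑ v, a v * (φ v - φ v0) := by
        simp only [mul_sub, sum_sub_distrib, ← sum_mul]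
        rw [show ∑ v, a v = 0 from sum_pot_univ ends w d]; ring
      rw [h2, show A = ∑ v, |a v| * k v from rfl, sum_mul]
      refine sum_le_sum fun v _ => ?_
      calc a v * (φ v - φ v0) ≤ |a v * (φ v - φ v0)| := le_abs_self _
        _ = |a v| * |φ v - φ v0| := abs_mul _ _
        _ ≤ |a v| * (k v * ∑ e, |dif ends φ e|) := mul_le_mul_of_nonneg_left (hk v φ) (abs_nonneg _)
        _ = _ := by ring
    have h3 : -∑ _e : E, A ^ 2 ≤ ∑ e, C * dif ends φ e ^ 2 - 2 * (A * ∑ e, |dif ends φ e|) := by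
      simp only [mul_sum, ← sum_sub_distrib, ← sum_neg_distrib]
      refine sum_le_sum fun e _ => ?_
      have h4 : 1 * dif ends φ e ^ 2 ≤ C * dif ends φ e ^ 2 := mul_le_mul_of_nonneg_right hC (sq_nonneg _)
      nlinarith [sq_nonneg (|dif ends φ e| - A), sq_abs (dif ends φ e)]
    show _ ≤ ∑ e, C * dif ends φ e ^ 2 - 2 * ∑ v, a v * φ v
    linarith
  obtain ⟨z, ⟨φ, hφ⟩, hmin⟩ := Int.exists_least_of_bdd (P := fun z => ∃ φ, En φ = z)
    ⟨-∑ _e : E, A ^ 2, fun z ⟨φ, hφ⟩ => hφ ▸ hlow φ⟩ ⟨En 0, 0, rfl⟩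
  refine ⟨φ, (bi_iff ends w _).2 fun Y => ?_⟩
  have h := hmin (En (φ + ind Y)) ⟨_, rfl⟩
  rw [← hφ] at h
  have h1 : ∑ e, C * dif ends (φ + ind Y) e ^ 2 = ∑ e, C * dif ends φ e ^ 2 +
      2 * C * ∑ e, dif ends (ind Y) e * dif ends φ e + C * ∑ e, dif ends (ind Y) e ^ 2 := by
    simp only [mul_sum, ← sum_add_distrib, dif_add]
    exact sum_congr rfl fun e _ => by ring
  have h2 : ∑ v, a v * (φ + ind Y) v = ∑ v, a v * φ v + ∑ v ∈ Y, a v := by
    simp only [Pi.add_apply, mul_add, sum_add_distrib]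
    congr 1
    rw [← ind_sum Y a]; exact sum_congr rfl fun v _ => mul_comm _ _
  simp only [En, h1, h2] at h
  simp only [pot_twist, sum_add_distrib, ← mul_sum, sum_twist_set, cut_eq]
  linarith

end Groth.Agent.GraphBI
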